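import Cfsg.Agent.H891.DG.WrBasic

/-!
# S4180, piece Wc: the number of `(u, v)` for which `X` is a complement (helper799)
-/

set_option autoImplicit false

namespace Cfsg.Agent.H799.DG

open Subgroup Cfsg.Agent.H891.DG Cfsg.Agent.H891.DG.WrB

universe u

section

variable {G : Type u} [Group G] {M : Subgroup G} [M.Normal] {I T : Type u} [Group T] (W : Wr G M I T)

omit [M.Normal] in
/-- two lifts of the same element of `G / M` -/
theorem exists_mul {a b : G} (h : (QuotientGroup.mk a : G ⧸ M) = QuotientGroup.mk b) : ∃ m ∈ M, b = a * m :=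
  ⟨a⁻¹ * b, QuotientGroup.eq.1 h, by rw [mul_inv_cancel_left]⟩

omit [M.Normal] in
theorem σ_eq {a b : G} (h : (QuotientGroup.mk a : G ⧸ M) = QuotientGroup.mk b) : W.σ a = W.σ b := by
  obtain ⟨m, hm, rfl⟩ := exists_mul h
  exact (σ_mul_mem W a hm).symm

/-- the elements of `G / M` whose lifts fix `i₀` and act on the `i₀`-th copy of `T` by an inner automorphism -/
def Q₀ (i₀ : I) : Subgroup (G ⧸ M) where
  carrier := {γ | ∀ g : G, (QuotientGroup.mk g : G ⧸ M) = γ →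
    W.σ g i₀ = i₀ ∧ W.f g i₀ ∈ (MulAut.conj : T →* MulAut T).range}
  one_mem' := by
    intro g hg
    have hg' : g ∈ M := (QuotientGroup.eq_one_iff g).1 hg
    exact ⟨by rw [σ_mem W hg', Equiv.Perm.one_apply], ((W.mem g).1 hg').2 i₀⟩
  mul_mem' := by
    intro γ δ hγ hδ g hg
    obtain ⟨a, rfl⟩ := QuotientGroup.mk_surjective γ
    have h1 := hγ a rfl
    have h2 := hδ (a⁻¹ * g) (by rw [QuotientGroup.mk_mul, QuotientGroup.mk_inv, hg, inv_mul_cancel_left])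
    have e : g = a * (a⁻¹ * g) := by rw [mul_inv_cancel_left]
    refine ⟨?_, ?_⟩
    · rw [e, map_mul, Equiv.Perm.mul_apply, h2.1, h1.1]
    · rw [e, W.mul, h2.1]
      exact mul_mem h1.2 h2.2
  inv_mem' := by
    intro γ hγ g hg
    have h1 := hγ g⁻¹ (by rw [QuotientGroup.mk_inv, hg, inv_inv])
    refine ⟨?_, ?_⟩
    · have := σ_inv' W g i₀
      rwa [h1.1] at this
    · have h2 := f_inv W g⁻¹ i₀
      rw [inv_inv, h1.1] at h2
      rw [h2]
      exact inv_mem h1.2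

theorem mem_Q₀_of {i₀ : I} {g : G} (h1 : W.σ g i₀ = i₀) (h2 : W.f g i₀ ∈ (MulAut.conj : T →* MulAut T).range) :
    (QuotientGroup.mk g : G ⧸ M) ∈ Q₀ W i₀ := by
  intro b hb
  obtain ⟨m, hm, rfl⟩ := exists_mul hb.symm
  rw [σ_mul_mem W g hm, f_mul_mem W g hm]
  exact ⟨h1, mul_mem h2 (((W.mem m).1 hm).2 i₀)⟩

variable [IsSimpleGroup T]

/-- the homomorphism `Q₀ → T` given by a section of `G → G / M` -/
noncomputable def mu (hna : ¬ IsMulCommutative T) (i₀ : I) (s : G ⧸ M →* G)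
    (hs : ∀ γ, (QuotientGroup.mk (s γ) : G ⧸ M) = γ) : ↥(Q₀ W i₀) →* T :=
  (toT hna).toMonoidHom.comp
    { toFun := fun q => ⟨W.f (s q) i₀, (q.2 (s q) (hs q)).2⟩
      map_one' := Subtype.ext (by
        change W.f (s (1 : ↥(Q₀ W i₀))) i₀ = 1
        rw [OneMemClass.coe_one, map_one, f_one])
      map_mul' := fun a b => Subtype.ext (by
        change W.f (s ((a * b : ↥(Q₀ W i₀)) : G ⧸ M)) i₀ = W.f (s a) i₀ * W.f (s b) i₀
        rw [coe_mul, map_mul, W.mul, (b.2 (s b) (hs b)).1]) }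

theorem conj_mu (hna : ¬ IsMulCommutative T) (i₀ : I) (s : G ⧸ M →* G)
    (hs : ∀ γ, (QuotientGroup.mk (s γ) : G ⧸ M) = γ) (q : ↥(Q₀ W i₀)) :
    MulAut.conj (mu W hna i₀ s hs q) = W.f (s q) i₀ :=
  conj_toT hna _

theorem mu_surj (hna : ¬ IsMulCommutative T) (i₀ : I) (s : G ⧸ M →* G)
    (hs : ∀ γ, (QuotientGroup.mk (s γ) : G ⧸ M) = γ)
    (hb : ∀ t : T, ∃ γ, W.σ (s γ) i₀ = i₀ ∧ W.f (s γ) i₀ = MulAut.conj t) :
    Function.Surjective (mu W hna i₀ s hs) := by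
  intro t
  obtain ⟨γ, h1, h2⟩ := hb t
  have h3 : γ ∈ Q₀ W i₀ := by
    have := mem_Q₀_of W h1 (h2 ▸ ⟨t, rfl⟩)
    rwa [hs] at this
  refine ⟨⟨γ, h3⟩, conj_injective hna ?_⟩
  rw [conj_mu, h2]

/-- the section on the stabiliser of `i₀` is determined by `mu` -/
theorem stab_eq (hna : ¬ IsMulCommutative T) (i₀ : I) {s s' : G ⧸ M →* G}
    (hs : ∀ γ, (QuotientGroup.mk (s γ) : G ⧸ M) = γ) (hs' : ∀ γ, (QuotientGroup.mk (s' γ) : G ⧸ M) = γ)
    (hsu : Function.Surjective (mu W hna i₀ s hs)) (h : mu W hna i₀ s hs = mu W hna i₀ s' hs')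
    {γ : G ⧸ M} (hγ : W.σ (s γ) i₀ = i₀) : W.f (s γ) i₀ = W.f (s' γ) i₀ := by
  have hγ' : W.σ (s' γ) i₀ = i₀ := by
    rw [← σ_eq W (a := s γ) (b := s' γ) (by rw [hs, hs'])]
    exact hγ
  have key : ∀ (r : G ⧸ M →* G), (∀ γ, (QuotientGroup.mk (r γ) : G ⧸ M) = γ) → W.σ (r γ) i₀ = i₀ →
      ∀ q : ↥(Q₀ W i₀), W.f (r (γ * q * γ⁻¹)) i₀ = W.f (r γ) i₀ * W.f (r q) i₀ * (W.f (r γ) i₀)⁻¹ := by
    intro r hr h1 q
    have h2 : W.σ (r q) i₀ = i₀ := (q.2 (r q) (hr q)).1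
    have h3 : W.σ (r γ)⁻¹ i₀ = i₀ := by
      have := σ_inv W (r γ) i₀
      rwa [h1] at this
    have h4 : W.f (r γ)⁻¹ i₀ = (W.f (r γ) i₀)⁻¹ := by
      have := f_inv W (r γ) i₀
      rwa [h1] at this
    rw [map_mul, map_mul, map_inv, W.mul, h3, W.mul, h2, h4]
  have hmem : ∀ q : ↥(Q₀ W i₀), γ * q * γ⁻¹ ∈ Q₀ W i₀ := by
    intro q
    have h1 : W.σ (s (γ * q * γ⁻¹)) i₀ = i₀ := by
      have h3 : W.σ (s γ)⁻¹ i₀ = i₀ := by
        have := σ_inv W (s γ) i₀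
        rwa [hγ] at this
      rw [map_mul, map_mul, map_inv, map_mul, map_mul, Equiv.Perm.mul_apply, Equiv.Perm.mul_apply, h3,
        (q.2 (s q) (hs q)).1, hγ]
    have h2 : W.f (s (γ * q * γ⁻¹)) i₀ ∈ (MulAut.conj : T →* MulAut T).range := by
      rw [key s hs hγ q, ← conj_mu W hna i₀ s hs q, ← conj_map]
      exact ⟨_, rfl⟩
    have := mem_Q₀_of W h1 h2
    rwa [hs] at this
  have h5 : ∀ t : T, (W.f (s' γ) i₀)⁻¹ * W.f (s γ) i₀ * MulAut.conj t =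
      MulAut.conj t * ((W.f (s' γ) i₀)⁻¹ * W.f (s γ) i₀) := by
    intro t
    obtain ⟨q, rfl⟩ := hsu t
    have h6 := key s hs hγ q
    have h7 := key s' hs' hγ' q
    have h8 : W.f (s (γ * q * γ⁻¹)) i₀ = W.f (s' (γ * q * γ⁻¹)) i₀ := by
      have h9 := conj_mu W hna i₀ s hs ⟨_, hmem q⟩
      have h10 := conj_mu W hna i₀ s' hs' ⟨_, hmem q⟩
      rw [h] at h9
      exact h9.symm.trans h10
    rw [h6, h7, ← conj_mu W hna i₀ s hs q, ← conj_mu W hna i₀ s' hs' q, ← h] at h8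
    generalize W.f (s γ) i₀ = a at *
    generalize W.f (s' γ) i₀ = b at *
    generalize MulAut.conj (mu W hna i₀ s hs q) = c at *
    have h11 : a * c = b * c * b⁻¹ * a := by rw [← h8, inv_mul_cancel_right]
    calc b⁻¹ * a * c = b⁻¹ * (a * c) := mul_assoc _ _ _
      _ = b⁻¹ * (b * c * b⁻¹ * a) := by rw [h11]
      _ = c * (b⁻¹ * a) := by group
  have h12 := eq_one_of_comm hna h5
  rw [inv_mul_eq_one] at h12
  exact h12.symm

/-- a section is determined by `mu` and the values at a transversal -/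
theorem sec_eq (hna : ¬ IsMulCommutative T) (i₀ : I) {s s' : G ⧸ M →* G}
    (hs : ∀ γ, (QuotientGroup.mk (s γ) : G ⧸ M) = γ) (hs' : ∀ γ, (QuotientGroup.mk (s' γ) : G ⧸ M) = γ)
    (hsu : Function.Surjective (mu W hna i₀ s hs)) (h : mu W hna i₀ s hs = mu W hna i₀ s' hs')
    (c : I → G ⧸ M) (hc : ∀ i, W.σ (s (c i)) i₀ = i) (hv : ∀ i, W.f (s (c i)) i₀ = W.f (s' (c i)) i₀) : s = s' := by
  have hσ : ∀ γ, W.σ (s γ) = W.σ (s' γ) := fun γ => σ_eq W (by rw [hs, hs'])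
  have key : ∀ (r : G ⧸ M →* G), (∀ i, W.σ (r (c i)) i₀ = i) → ∀ γ i,
      W.σ (r ((c (W.σ (r γ) i))⁻¹ * γ * c i)) i₀ = i₀ ∧
      W.f (r γ) i = W.f (r (c (W.σ (r γ) i))) i₀ * W.f (r ((c (W.σ (r γ) i))⁻¹ * γ * c i)) i₀ *
        (W.f (r (c i)) i₀)⁻¹ := by
    intro r hr γ i
    set k := W.σ (r γ) i with hk
    set η := (c k)⁻¹ * γ * c i with hη
    have h1 : W.σ (r η) i₀ = i₀ := by
      rw [hη, map_mul, map_mul, map_mul, map_mul, Equiv.Perm.mul_apply, Equiv.Perm.mul_apply, hr, ← hk, map_inv]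
      have := σ_inv W (r (c k)) i₀
      rwa [hr] at this
    refine ⟨h1, ?_⟩
    have h2 : r γ = r (c k) * r η * (r (c i))⁻¹ := by
      rw [← map_mul, ← map_inv, ← map_mul]
      congr 1
      rw [hη]
      group
    have h3 : W.σ (r (c i))⁻¹ i = i₀ := by
      have := σ_inv W (r (c i)) i₀
      rwa [hr] at this
    have h4 : W.f (r (c i))⁻¹ i = (W.f (r (c i)) i₀)⁻¹ := by
      have := f_inv W (r (c i)) i₀
      rwa [hr] at this
    rw [h2, W.mul, h3, W.mul, h1, h4]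
  refine MonoidHom.ext fun γ => WrB.ext W (hσ γ) fun i => ?_
  have h1 := key s hc γ i
  have h2 := key s' (fun i => by rw [← hσ]; exact hc i) γ i
  rw [h1.2, h2.2, hv, hv, stab_eq W hna i₀ hs hs' hsu h h1.1, hσ γ]

/-- the count of the sections -/
theorem card_sec [Finite G] [Fintype I] [DecidableEq I] [Finite T] (hna : ¬ IsMulCommutative T) (i₀ : I) :
    ∃ κ : ℕ, Nat.card T ^ κ ≤ Nat.card (G ⧸ M) ∧
      Nat.card {s : G ⧸ M →* G // (∀ γ, (QuotientGroup.mk (s γ) : G ⧸ M) = γ) ∧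
        ∀ t : T, ∃ γ, W.σ (s γ) i₀ = i₀ ∧ W.f (s γ) i₀ = MulAut.conj t} ≤
        κ * Nat.card (MulAut T) * Nat.card T ^ (Fintype.card I - 1) := by
  obtain ⟨κ, h1, h2⟩ := Crt.card_surj (Q := ↥(Q₀ W i₀)) hna
  refine ⟨κ, h1.trans (Subgroup.card_le_card_group _), ?_⟩
  have hch : ∀ i : I, ∃ g : G, W.σ g i₀ = i ∧ (i = i₀ → g = 1) := by
    intro i
    by_cases hi : i = i₀
    · exact ⟨1, by rw [map_one, Equiv.Perm.one_apply, hi], fun _ => rfl⟩
    · obtain ⟨g, hg⟩ := W.trans i₀ i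
      exact ⟨g, hg, fun h => absurd h hi⟩
  choose g hg hg1 using hch
  -- the values at the transversal
  have hval : ∀ (s : {s : G ⧸ M →* G // (∀ γ, (QuotientGroup.mk (s γ) : G ⧸ M) = γ) ∧
        ∀ t : T, ∃ γ, W.σ (s γ) i₀ = i₀ ∧ W.f (s γ) i₀ = MulAut.conj t}) (i : I),
      ∃ t : T, W.f (s.1 (QuotientGroup.mk (g i))) i₀ = W.f (g i) i₀ * MulAut.conj t := by
    intro s i
    obtain ⟨m, hm, h⟩ := exists_mul (M := M) (a := g i) (b := s.1 (QuotientGroup.mk (g i))) (by rw [s.2.1])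
    obtain ⟨t, ht⟩ := ((W.mem m).1 hm).2 i₀
    refine ⟨t, ?_⟩
    rw [h, f_mul_mem W _ hm, ht]
  choose v hv using hval
  have : Finite (↥(Q₀ W i₀) →* T) := Finite.of_injective (fun f : ↥(Q₀ W i₀) →* T => (f : ↥(Q₀ W i₀) → T))
    DFunLike.coe_injective
  have hinj : Function.Injective (fun s : {s : G ⧸ M →* G // (∀ γ, (QuotientGroup.mk (s γ) : G ⧸ M) = γ) ∧
        ∀ t : T, ∃ γ, W.σ (s γ) i₀ = i₀ ∧ W.f (s γ) i₀ = MulAut.conj t} =>
      ((⟨mu W hna i₀ s.1 s.2.1, mu_surj W hna i₀ s.1 s.2.1 s.2.2⟩ :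
        {μ : ↥(Q₀ W i₀) →* T // Function.Surjective μ}), fun i : {i : I // i ≠ i₀} => v s i)) := by
    intro s s' h
    simp only [Prod.mk.injEq, Subtype.mk.injEq] at h
    refine Subtype.ext (sec_eq W hna i₀ s.2.1 s'.2.1 (mu_surj W hna i₀ s.1 s.2.1 s.2.2) h.1
      (fun i => QuotientGroup.mk (g i)) (fun i => ?_) fun i => ?_)
    · rw [σ_eq W (a := s.1 (QuotientGroup.mk (g i))) (b := g i) (by rw [s.2.1])]
      exact hg i
    · by_cases hi : i = i₀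
      · rw [hg1 i hi, QuotientGroup.mk_one, map_one, map_one]
      · rw [hv, hv]
        have := congrFun h.2 ⟨i, hi⟩
        simp only at this
        rw [this]
  have h3 := Nat.card_le_card_of_injective _ hinj
  rw [Nat.card_prod, Nat.card_fun] at h3
  have h4 : Nat.card {i : I // i ≠ i₀} = Fintype.card I - 1 := by
    rw [Nat.card_eq_fintype_card, Fintype.card_subtype_compl, Fintype.card_subtype_eq]
  rw [h4] at h3
  exact h3.trans (Nat.mul_le_mul_right _ h2)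

end

section

variable {G : Type u} [Group G] [Finite G] {M : Subgroup G} [M.Normal] {I T : Type u} [Fintype I] [DecidableEq I]
  [Group T] [Finite T] [IsSimpleGroup T] (W : Wr G M I T)

omit [Finite G] in
/-- a complement gives a section -/
theorem exists_sec {X : Subgroup G} (h1 : X ⊔ M = ⊤) (h2 : X ⊓ M = ⊥) :
    ∃ s : G ⧸ M →* G, (∀ γ, (QuotientGroup.mk (s γ) : G ⧸ M) = γ) ∧ (∀ γ, s γ ∈ X) ∧
      ∀ z ∈ X, s (QuotientGroup.mk z) = z := by
  let φ : ↥X →* G ⧸ M := (QuotientGroup.mk' M).comp X.subtype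
  have hinj : Function.Injective φ := by
    rw [injective_iff_map_eq_one]
    intro z hz
    have h3 : (z : G) ∈ M := (QuotientGroup.eq_one_iff _).1 hz
    have h4 : (z : G) ∈ X ⊓ M := ⟨z.2, h3⟩
    rw [h2, mem_bot] at h4
    exact Subtype.ext h4
  have hsurj : Function.Surjective φ := by
    intro γ
    obtain ⟨g, rfl⟩ := QuotientGroup.mk_surjective γ
    have h3 : g ∈ X ⊔ M := h1 ▸ mem_top g
    rw [Subgroup.mem_sup_of_normal_right] at h3
    obtain ⟨a, ha, b, hb, rfl⟩ := h3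
    refine ⟨⟨a, ha⟩, ?_⟩
    change (QuotientGroup.mk a : G ⧸ M) = QuotientGroup.mk (a * b)
    rw [QuotientGroup.eq, inv_mul_cancel_left]
    exact hb
  let e : ↥X ≃* G ⧸ M := MulEquiv.ofBijective φ ⟨hinj, hsurj⟩
  refine ⟨X.subtype.comp e.symm.toMonoidHom, fun γ => ?_, fun γ => (e.symm γ).2, fun z hz => ?_⟩
  · change φ (e.symm γ) = γ
    exact e.apply_symm_apply γ
  · change ((e.symm (QuotientGroup.mk z) : ↥X) : G) = z
    have : e.symm (QuotientGroup.mk z) = ⟨z, hz⟩ := by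
      rw [MulEquiv.symm_apply_eq]
      rfl
    rw [this]

/-- (Wc) -/
theorem card_typeI (hna : ¬ IsMulCommutative T) (x y : G) (R : Set G) (i₀ : I) :
    ∃ κ : ℕ, Nat.card T ^ κ ≤ Nat.card (G ⧸ M) ∧
      Nat.card {uv : (I → T) × (I → T) // XX W x y R uv ⊔ M = ⊤ ∧ XX W x y R uv ⊓ M = ⊥ ∧ Big W (XX W x y R uv) i₀} ≤
        κ * Nat.card (MulAut T) * Nat.card T ^ (Fintype.card I - 1) := by
  obtain ⟨κ, h1, h2⟩ := card_sec W hna i₀
  refine ⟨κ, h1, le_trans ?_ h2⟩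
  have hx : ∀ uv : {uv : (I → T) × (I → T) // XX W x y R uv ⊔ M = ⊤ ∧ XX W x y R uv ⊓ M = ⊥ ∧
      Big W (XX W x y R uv) i₀}, ∃ s : {s : G ⧸ M →* G // (∀ γ, (QuotientGroup.mk (s γ) : G ⧸ M) = γ) ∧
        ∀ t : T, ∃ γ, W.σ (s γ) i₀ = i₀ ∧ W.f (s γ) i₀ = MulAut.conj t},
      s.1 (QuotientGroup.mk x) = x * el W uv.1.1 ∧ s.1 (QuotientGroup.mk y) = y * el W uv.1.2 := by
    intro uv
    obtain ⟨s, hs1, hs2, hs3⟩ := exists_sec uv.2.1 uv.2.2.1
    refine ⟨⟨s, hs1, fun t => ?_⟩, ?_, ?_⟩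
    · obtain ⟨z, hz, h3, h4⟩ := uv.2.2.2 t
      exact ⟨QuotientGroup.mk z, by rw [hs3 z hz]; exact h3, by rw [hs3 z hz]; exact h4⟩
    · change s (QuotientGroup.mk x) = _
      have h3 : x * el W uv.1.1 ∈ XX W x y R uv.1 := subset_closure (Or.inl (Or.inl rfl))
      rw [← hs3 _ h3, QuotientGroup.mk_mul, (QuotientGroup.eq_one_iff _).2 (el_mem W _), mul_one]
    · change s (QuotientGroup.mk y) = _
      have h3 : y * el W uv.1.2 ∈ XX W x y R uv.1 := subset_closure (Or.inl (Or.inr rfl))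
      rw [← hs3 _ h3, QuotientGroup.mk_mul, (QuotientGroup.eq_one_iff _).2 (el_mem W _), mul_one]
  choose s hs using hx
  have : Finite (G ⧸ M →* G) := Finite.of_injective (fun f : G ⧸ M →* G => (f : G ⧸ M → G)) DFunLike.coe_injective
  refine Nat.card_le_card_of_injective s ?_
  intro a b hab
  have h3 := (hs a).1
  have h4 := (hs a).2
  rw [hab, (hs b).1] at h3
  rw [hab, (hs b).2] at h4
  refine Subtype.ext (Prod.ext ?_ ?_)
  · exact (el_injective W hna (mul_left_cancel h3)).symm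
  · exact (el_injective W hna (mul_left_cancel h4)).symm

end

end Cfsg.Agent.H799.DG
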